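import Groth.Agent.An92.Mod.Sky
import Groth.Agent.An92.Germ.Flat
import Groth.Agent.An92.Immersion
import Groth.Agent.QC70.Stalk
import Mathlib.Algebra.Module.CharacterModule
import Mathlib.RingTheory.Flat.FaithfullyFlat.Algebra
import Mathlib.Algebra.Category.ModuleCat.Presheaf.EpiMono

/-!
Analytification is exact and faithful.
-/

set_option autoImplicit false
set_option backward.isDefEq.respectTransparency.types false

noncomputable section

open AlgebraicGeometry CategoryTheory TopologicalSpace Opposite TensorProduct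
open Groth.Agent.QC70 (germM germM_res germM_exist germM_smul stalkMapM stalkMapM_germ stalkLinear)

namespace Groth.Agent.An92

open An An.Pts

variable {X : Scheme.{0}} [X.Over SC]

/-- The analytic local ring as an algebra over the algebraic one. -/
instance anAlgebra (x : Pts X) : Algebra (X.presheaf.stalk x.pt) (anStalk x) := (anStalkMap x).toAlgebra

theorem algebraMap_anStalk (x : Pts X) (r : X.presheaf.stalk x.pt) :
    algebraMap (X.presheaf.stalk x.pt) (anStalk x) r = anStalkMap x r := rfl

theorem anGerm_toHolApp (x : Pts X) (W : X.Opens) (hx : x.pt ∈ W) (r : Γ(X, W)) :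
    anGerm x ((baseF X).obj W) hx (toHolApp W r) = anStalkMap x (X.presheaf.germ W x.pt hx r) :=
  (congrArg (fun k => (CommRingCat.Hom.hom k) r)
    (PresheafedSpace.stalkMap_germ (anToScheme X) W x hx)).symm

variable (x : Pts X) {N : Type} [AddCommGroup N] [Module (anStalk x) N] [Module (X.presheaf.stalk x.pt) N]
  [IsScalarTower (X.presheaf.stalk x.pt) (anStalk x) N]

theorem smul_eq_map_smul (r : X.presheaf.stalk x.pt) (a : N) : r • a = anStalkMap x r • a :=
  (algebraMap_smul (anStalk x) r a).symm

/-- The value at `x` of a morphism to a skyscraper. -/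
def skyVal {M : X.Modules} (g : M ⟶ (anPush X).obj (sky x N)) (W : X.Opens) (hx : x.pt ∈ W)
    (s : Γ(M, W)) : N :=
  (show SkySec x N ((baseF X).obj W) from g.app W s) ⟨x, hx⟩ ⟨rfl⟩

theorem skyVal_res {M : X.Modules} (g : M ⟶ (anPush X).obj (sky x N)) {W W' : X.Opens} (h : W' ≤ W)
    (hx : x.pt ∈ W') (s : Γ(M, W)) :
    skyVal x g W' hx (QC70.res M h s) = skyVal x g W (h hx) s := by
  unfold skyVal
  rw [QC70.app_res]
  rfl

theorem skyVal_congr {M : X.Modules} (g : M ⟶ (anPush X).obj (sky x N)) {W W' : X.Opens}
    (hx : x.pt ∈ W) (hx' : x.pt ∈ W') (s : Γ(M, W)) (t : Γ(M, W'))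
    (h : germM M W x.pt hx s = germM M W' x.pt hx' t) : skyVal x g W hx s = skyVal x g W' hx' t := by
  obtain ⟨V, hxV, i₁, i₂, e⟩ := TopCat.Presheaf.germ_eq M.presheaf x.pt hx hx' s t h
  rw [← skyVal_res x g i₁.le hxV s, ← skyVal_res x g i₂.le hxV t]
  exact congrArg _ e

theorem skyVal_add {M : X.Modules} (g : M ⟶ (anPush X).obj (sky x N)) (W : X.Opens) (hx : x.pt ∈ W)
    (s t : Γ(M, W)) : skyVal x g W hx (s + t) = skyVal x g W hx s + skyVal x g W hx t := by
  unfold skyVal
  rw [map_add]
  rfl

theorem skyVal_smul {M : X.Modules} (g : M ⟶ (anPush X).obj (sky x N)) (W : X.Opens) (hx : x.pt ∈ W)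
    (r : Γ(X, W)) (s : Γ(M, W)) :
    skyVal x g W hx (r • s) = X.presheaf.germ W x.pt hx r • skyVal x g W hx s := by
  rw [smul_eq_map_smul, ← anGerm_toHolApp x W hx r]
  unfold skyVal
  rw [Scheme.Modules.Hom.app_smul]
  rfl

theorem exists_fromPush {M : X.Modules} (g : M ⟶ (anPush X).obj (sky x N)) :
    ∃ ψ : M.presheaf.stalk x.pt →ₗ[X.presheaf.stalk x.pt] N,
      ∀ (W : X.Opens) (hx : x.pt ∈ W) (s : Γ(M, W)), ψ (germM M W x.pt hx s) = skyVal x g W hx s := by
  classical
  choose W hxW s hs using fun e : M.presheaf.stalk x.pt => germM_exist e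
  let f : M.presheaf.stalk x.pt → N := fun e => skyVal x g (W e) (hxW e) (s e)
  have hf : ∀ (V : X.Opens) (hx : x.pt ∈ V) (t : Γ(M, V)),
      f (germM M V x.pt hx t) = skyVal x g V hx t :=
    fun V hx t => skyVal_congr x g _ hx _ t (hs _)
  refine ⟨{ toFun := f, map_add' := fun e e' => ?_, map_smul' := fun r e => ?_ }, hf⟩
  · obtain ⟨V, hV, a, rfl⟩ := germM_exist e
    obtain ⟨V', hV', b, rfl⟩ := germM_exist e'
    have h : x.pt ∈ V ⊓ V' := ⟨hV, hV'⟩
    rw [← germM_res (inf_le_left : V ⊓ V' ≤ V) h a, ← germM_res (inf_le_right : V ⊓ V' ≤ V') h b,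
      ← QC70.germM_add, hf, hf, hf, skyVal_add]
  · obtain ⟨V, hV, a, rfl⟩ := germM_exist e
    obtain ⟨V', hV', c, rfl⟩ := TopCat.Presheaf.exists_germ_eq X.presheaf r
    have h : x.pt ∈ V ⊓ V' := ⟨hV, hV'⟩
    rw [← germM_res (inf_le_left : V ⊓ V' ≤ V) h a, ← QC70.germ_resO (inf_le_right : V ⊓ V' ≤ V') h c,
      RingHom.id_apply, ← germM_smul, hf, hf, skyVal_smul]

theorem exists_toPush {M : X.Modules} (ψ : M.presheaf.stalk x.pt →ₗ[X.presheaf.stalk x.pt] N) :
    ∃ g : M ⟶ (anPush X).obj (sky x N),
      ∀ (W : X.Opens) (hx : x.pt ∈ W) (s : Γ(M, W)), skyVal x g W hx s = ψ (germM M W x.pt hx s) := by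
  let F : ∀ W : X.Opens, Γ(M, W) → SkySec x N ((baseF X).obj W) := fun W s y h =>
    ψ (germM M W x.pt (h.down ▸ y.2 : x ∈ (baseF X).obj W) s)
  refine ⟨⟨PresheafOfModules.homMk
    { app := fun W => AddCommGrpCat.ofHom
        { toFun := fun s => F W.unop s
          map_zero' := funext fun y => funext fun h => by
            exact (congrArg ψ (QC70.germM_zero _)).trans (map_zero ψ)
          map_add' := fun s t => funext fun y => funext fun h => by
            exact (congrArg ψ (QC70.germM_add _ s t)).trans (map_add ψ _ _) }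
      naturality := fun {V W} i => by
        refine AddCommGrpCat.hom_ext (AddMonoidHom.ext fun s => ?_)
        refine funext fun y => funext fun h => ?_
        exact congrArg ψ (germM_res i.unop.le (h.down ▸ y.2 : x ∈ (baseF X).obj W.unop) s) }
    (fun W r s => funext fun y => funext fun h => by
      show ψ (germM M W.unop x.pt _ ((show Γ(X, W.unop) from r) • (show Γ(M, W.unop) from s))) = _
      rw [germM_smul, map_smul, smul_eq_map_smul,
        ← anGerm_toHolApp x W.unop (h.down ▸ y.2 : x ∈ (baseF X).obj W.unop) r]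
      rfl)⟩, fun W hx s => rfl⟩

/-- The presheaf of modules over the holomorphic functions underlying an analytic module. -/
abbrev anPom (P : AnMod X) : PresheafOfModules (holPresheaf X ⋙ forget₂ CommRingCat RingCat) := P.val

/-- The underlying presheaf of groups. -/
abbrev anPsh (P : AnMod X) : TopCat.Presheaf AddCommGrpCat.{0} (top X) := (anPom P).presheaf

/-- The stalk module, with the point taken in the topological space. -/
@[reducible] def anStalkModuleAux (P : AnMod X) (x : top X) :
    Module ((holPresheaf X).stalk x) ((anPsh P).stalk x) :=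
  inferInstanceAs (Module ((holPresheaf X).stalk x)
    (TopCat.Presheaf.stalk (C := AddCommGrpCat.{0}) (anPom P).presheaf x))

instance anStalkModule (P : AnMod X) : Module (anStalk x) ((anPsh P).stalk x) :=
  anStalkModuleAux P x

/-- Character values of a module over the analytic ring. -/
def charVal {P : AnMod X} (χ : CharacterModule ((anPsh P).stalk x))
    (U : Opens (top X)) (hx : x ∈ U) (s : P.val.obj (op U)) : CharacterModule (anStalk x) :=
  χ.comp (LinearMap.toSpanSingleton (anStalk x) ((anPsh P).stalk x)
    ((anPsh P).germ U x hx s)).toAddMonoidHom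

/-- The morphism to a skyscraper given by a character of the stalk. -/
theorem exists_toSky {P : AnMod X} (χ : CharacterModule ((anPsh P).stalk x)) :
    ∃ g : P ⟶ sky x (CharacterModule (anStalk x)), ∀ (U : Opens (top X)) (hx : x ∈ U) (s : P.val.obj (op U)),
      (show SkySec x (CharacterModule (anStalk x)) U from g.val.app (op U) s) ⟨x, hx⟩ ⟨rfl⟩ =
        charVal x χ U hx s := by
  refine ⟨⟨PresheafOfModules.homMk
    { app := fun U => AddCommGrpCat.ofHom
        { toFun := fun s y h => charVal x χ U.unop (h.down ▸ y.2) s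
          map_zero' := funext fun y => funext fun h => DFunLike.ext _ _ fun b => by
            exact (congrArg χ ((congrArg (b • ·) (map_zero ((anPsh P).germ U.unop x (h.down ▸ y.2)).hom)).trans
              (smul_zero b))).trans (map_zero χ)
          map_add' := fun s t => funext fun y => funext fun h => DFunLike.ext _ _ fun b => by
            exact (congrArg χ ((congrArg (b • ·) (map_add ((anPsh P).germ U.unop x (h.down ▸ y.2)).hom s t)).trans
              (smul_add b _ _))).trans (map_add χ _ _) }
      naturality := fun {V W} i => by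
        refine AddCommGrpCat.hom_ext (AddMonoidHom.ext fun s => ?_)
        refine funext fun y => funext fun h => DFunLike.ext _ _ fun b => ?_
        exact congrArg (fun e => χ (b • e))
          ((anPsh P).germ_res_apply i.unop x (h.down ▸ y.2) s) }
    (fun U r s => funext fun y => funext fun h => DFunLike.ext _ _ fun b => by
      refine (congrArg (fun e => χ (b • e)) (PresheafOfModules.germ_smul (R := holPresheaf X)
        (anPom P) x U.unop
        (h.down ▸ y.2) r s)).trans ?_
      exact congrArg χ ((smul_smul b (anGerm x U.unop (h.down ▸ y.2) r) _).trans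
        (congrArg (· • _) (mul_comm b _))))⟩, fun U hx s => rfl⟩

instance charTower : IsScalarTower (X.presheaf.stalk x.pt) (anStalk x) (CharacterModule (anStalk x)) :=
  ⟨fun r b c => DFunLike.ext _ _ fun t => congrArg c (show (r • b) • t = b • r • t by
    rw [smul_assoc, smul_comm])⟩

instance anPush_additive : (anPush X).Additive where
  map_add := rfl

instance analytify_additive : (analytify X).Additive := (analytifyAdj X).left_adjoint_additive

variable [LocallyOfFiniteType (X ↘ SC)] [IsReduced X]

theorem flat_anStalk : Module.Flat (X.presheaf.stalk x.pt) (anStalk x) := flat_anStalkMap x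

theorem faithfullyFlat_anStalk : Module.FaithfullyFlat (X.presheaf.stalk x.pt) (anStalk x) := by
  have := isLocalRing_anStalk x
  have : IsLocalHom (algebraMap (X.presheaf.stalk x.pt) (anStalk x)) := isLocalHom_anStalkMap x
  have := flat_anStalk x
  exact Module.FaithfullyFlat.of_flat_of_isLocalHom

/-- Skyscrapers of characters are injective relative to monomorphisms of `O_X`-modules. -/
theorem exists_extend {M M' : X.Modules} (f : M ⟶ M') [Mono f]
    (g : M ⟶ (anPush X).obj (sky x (CharacterModule (anStalk x)))) :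
    ∃ g' : M' ⟶ (anPush X).obj (sky x (CharacterModule (anStalk x))), f ≫ g' = g := by
  have := flat_anStalk x
  obtain ⟨ψ, hψ⟩ := exists_fromPush x g
  let fx := stalkLinear f x.pt
  have hinj : Function.Injective (fx.rTensor (anStalk x)) :=
    Module.Flat.rTensor_preserves_injective_linearMap fx (QC70.injective_stalkMapM_of_mono f x.pt)
  obtain ⟨c, hc⟩ := CharacterModule.dual_surjective_of_injective _ hinj (CharacterModule.uncurry ψ)
  obtain ⟨g', hg'⟩ := exists_toPush x (N := CharacterModule (anStalk x)) (CharacterModule.curry c)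
  refine ⟨g', Scheme.Modules.hom_ext _ _ fun W => ?_⟩
  refine AddCommGrpCat.hom_ext (AddMonoidHom.ext fun s => ?_)
  show (show SkySec x (CharacterModule (anStalk x)) ((baseF X).obj W) from g'.app W (f.app W s)) =
    (show SkySec x (CharacterModule (anStalk x)) ((baseF X).obj W) from g.app W s)
  refine funext fun y => funext fun h => ?_
  obtain ⟨y, hy⟩ := y
  obtain ⟨rfl : y = x⟩ := h
  show skyVal y g' W hy (f.app W s) = skyVal y g W hy s
  rw [hg', ← hψ, ← stalkMapM_germ]
  refine DFunLike.ext _ _ fun b => ?_
  exact DFunLike.congr_fun hc (germM M W y.pt hy s ⊗ₜ b)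

theorem mono_map {M M' : X.Modules} (f : M ⟶ M') [Mono f] : Mono ((analytify X).map f) := by
  refine (SheafOfModules.forget (holRing X)).mono_of_mono_map ?_
  refine PresheafOfModules.mono_of_injective fun {U} => ?_
  refine (injective_iff_map_eq_zero ((((analytify X).map f).val).app U).hom).2 fun s hs => ?_
  let P := (analytify X).obj M
  refine TopCat.Presheaf.section_ext (⟨anPsh P, P.isSheaf⟩ : TopCat.Sheaf AddCommGrpCat.{0} (top X))
    U.unop _ _ fun x hx => ?_
  refine Eq.trans ?_ (map_zero _).symm
  by_contra hne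
  obtain ⟨χ, hχ⟩ := CharacterModule.exists_character_apply_ne_zero_of_ne_zero hne
  obtain ⟨g, hg⟩ := exists_toSky x χ
  obtain ⟨g', hg'⟩ := exists_extend x f ((analytifyAdj X).homEquiv _ _ g)
  refine hχ ?_
  have hgeq : (analytify X).map f ≫ ((analytifyAdj X).homEquiv _ _).symm g' = g := by
    rw [← Adjunction.homEquiv_naturality_left_symm, hg', Equiv.symm_apply_apply]
  have h1 := hg U.unop hx s
  rw [← hgeq] at h1
  have h0 : ((analytify X).map f ≫ ((analytifyAdj X).homEquiv _ _).symm g').val.app (op U.unop) s = 0 := by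
    show (((analytifyAdj X).homEquiv _ _).symm g').val.app U (((analytify X).map f).val.app U s) = 0
    erw [hs]
    exact map_zero _
  rw [h0] at h1
  have h2 := DFunLike.congr_fun h1.symm (1 : anStalk x)
  rw [show charVal x χ U.unop hx s 1 = χ ((1 : anStalk x) • _) from rfl, one_smul] at h2
  exact h2

theorem eq_zero_of_map_eq_zero {M M' : X.Modules} (f : M ⟶ M') (h : (analytify X).map f = 0) : f = 0 := by
  have hpt : ∀ (y : Pts X) (e : M.presheaf.stalk y.pt), stalkMapM f y.pt e = 0 := by
    intro y e
    obtain ⟨W, hyW, s, rfl⟩ := germM_exist e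
    have := faithfullyFlat_anStalk y
    refine (injective_iff_map_eq_zero (TensorProduct.mk (X.presheaf.stalk y.pt) (anStalk y)
      (M'.presheaf.stalk y.pt) 1)).1 (Module.FaithfullyFlat.tensorProduct_mk_injective _) _ ?_
    refine (TensorProduct.comm (X.presheaf.stalk y.pt) (anStalk y) (M'.presheaf.stalk y.pt)).injective ?_
    rw [map_zero, TensorProduct.mk_apply, TensorProduct.comm_tmul]
    refine CharacterModule.eq_zero_of_character_apply fun c => ?_
    obtain ⟨g, hg⟩ := exists_toPush y (N := CharacterModule (anStalk y))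
      (CharacterModule.curry c : M'.presheaf.stalk y.pt →ₗ[X.presheaf.stalk y.pt] CharacterModule (anStalk y))
    have h0 : f ≫ g = 0 := by
      apply ((analytifyAdj X).homEquiv _ _).symm.injective
      rw [Adjunction.homEquiv_naturality_left_symm, h, Limits.zero_comp]
      exact ((analytifyAdj X).homAddEquiv _ _).symm.map_zero.symm
    have h1 : skyVal y g W hyW (f.app W s) = 0 := by
      show skyVal y (f ≫ g) W hyW s = 0
      rw [h0]
      rfl
    rw [hg, ← stalkMapM_germ] at h1
    exact DFunLike.congr_fun h1 (1 : anStalk y)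
  refine Scheme.Modules.hom_ext _ _ fun W => ?_
  refine AddCommGrpCat.hom_ext (AddMonoidHom.ext fun s => ?_)
  refine QC70.section_ext M' _ _ fun p hp => ?_
  obtain ⟨y, hy⟩ := exists_pt_mem (X := X) (S := closure {p} ∩ (W : Set X))
    (isClosed_closure.isLocallyClosed.inter W.2.isLocallyClosed) ⟨p, subset_closure rfl, hp⟩
  have hz : germM M' W y.pt hy.2 (f.app W s) = 0 := (stalkMapM_germ f hy.2 s).symm.trans (hpt y _)
  obtain ⟨W', hW', hyW', h0⟩ := QC70.germM_eq_zero hz
  refine ⟨W', hW', (specializes_iff_mem_closure.2 hy.1).mem_open W'.2 hyW', ?_⟩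
  show QC70.res M' hW' (f.app W s) = QC70.res M' hW' 0
  rw [h0, QC70.res_zero]

theorem analytify_exact :
    Limits.PreservesFiniteLimits (analytify X) ∧ Limits.PreservesFiniteColimits (analytify X) ∧
      (analytify X).Faithful ∧ (analytify X).ReflectsIsomorphisms := by
  have hl : Limits.PreservesColimitsOfSize.{0, 0} (analytify X) :=
    (analytifyAdj X).leftAdjoint_preservesColimits
  have hr : Limits.PreservesFiniteColimits (analytify X) :=
    Limits.PreservesColimitsOfSize.preservesFiniteColimits _
  have : (analytify X).Additive := (analytifyAdj X).left_adjoint_additive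
  have : (analytify X).PreservesMonomorphisms := ⟨fun f hf => mono_map f⟩
  have hfaith : (analytify X).Faithful := ⟨fun {M M'} f g h =>
    sub_eq_zero.1 (eq_zero_of_map_eq_zero (f - g) (by rw [Functor.map_sub, h, sub_self]))⟩
  refine ⟨?_, hr, hfaith, inferInstance⟩
  refine (Functor.preservesFiniteLimits_iff_forall_exact_map_and_mono _).2 fun S hS => ?_
  have := hS.mono_f
  exact ⟨((Functor.preservesFiniteColimits_iff_forall_exact_map_and_epi (analytify X)).1 hr S hS).1,
    inferInstance⟩

end Groth.Agent.An92
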