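import Groth.Agent.An92.Germ.Stalk
import Mathlib.Algebra.Category.ModuleCat.Stalk
import Mathlib.Topology.Sheaves.SheafOfFunctions

/-!
Skyscraper modules over the sheaf of holomorphic functions.
-/

set_option autoImplicit false
set_option backward.isDefEq.respectTransparency.types false

noncomputable section

open AlgebraicGeometry CategoryTheory TopologicalSpace Opposite

namespace Groth.Agent.An92

open An An.Pts

variable {X : Scheme.{0}} [X.Over SC]

/-- The stalk at `x` of the sheaf of holomorphic functions. -/
abbrev anStalk (x : Pts X) : CommRingCat.{0} := (anSpace X).presheaf.stalk x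

/-- The germ at `x` of a holomorphic function. -/
abbrev anGerm (x : Pts X) (U : Opens (top X)) (hx : x ∈ U) :
    (holPresheaf X).obj (op U) →+* anStalk x :=
  ((anSpace X).presheaf.germ U x hx).hom

variable (x : Pts X) (N : Type) [AddCommGroup N] [Module (anStalk x) N]

/-- Sections of the skyscraper. -/
abbrev SkySec (U : Opens (top X)) : Type := ∀ y : U, PLift ((y.1 : Pts X) = x) → N

/-- The skyscraper presheaf of abelian groups. -/
def skyAb : (Opens (top X))ᵒᵖ ⥤ AddCommGrpCat.{0} where
  obj U := AddCommGrpCat.of (SkySec x N U.unop)
  map {U V} i := AddCommGrpCat.ofHom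
    { toFun := fun f y h => f ⟨y.1, i.unop.le y.2⟩ h
      map_zero' := rfl
      map_add' := fun _ _ => rfl }
  map_id _ := rfl
  map_comp _ _ := rfl

/-- The action of holomorphic functions on the sections of a skyscraper. -/
instance skyModule (U : (Opens (top X))ᵒᵖ) : Module ((holRing X).obj.obj U) ((skyAb x N).obj U) where
  smul r f := fun y h => anGerm x U.unop (h.down ▸ y.2) r • f y h
  one_smul f := funext fun y => funext fun h => by
    exact (congrArg (· • f y h) (map_one (anGerm x U.unop (h.down ▸ y.2)))).trans (one_smul _ _)
  mul_smul r s f := funext fun y => funext fun h => by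
    exact (congrArg (· • f y h) (map_mul (anGerm x U.unop (h.down ▸ y.2)) r s)).trans (mul_smul _ _ _)
  smul_zero r := funext fun y => funext fun h => smul_zero _
  smul_add r f g := funext fun y => funext fun h => smul_add _ _ _
  add_smul r s f := funext fun y => funext fun h => by
    exact (congrArg (· • f y h) (map_add (anGerm x U.unop (h.down ▸ y.2)) r s)).trans (add_smul _ _ _)
  zero_smul f := funext fun y => funext fun h => by
    exact (congrArg (· • f y h) (map_zero (anGerm x U.unop (h.down ▸ y.2)))).trans (zero_smul _ _)

/-- The skyscraper module. -/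
def sky : AnMod X where
  val := PresheafOfModules.ofPresheaf (R := (holRing X).obj) (skyAb x N) fun {U V} i r f =>
    funext fun y => funext fun h => by
      show anGerm x U.unop (h.down ▸ i.unop.le y.2) r • f ⟨y.1, i.unop.le y.2⟩ h =
        anGerm x V.unop (h.down ▸ y.2) ((holPresheaf X).map i r) • f ⟨y.1, i.unop.le y.2⟩ h
      exact congrArg (· • f ⟨y.1, i.unop.le y.2⟩ h)
        ((anSpace X).presheaf.germ_res_apply i.unop x (h.down ▸ y.2) r).symm
  isSheaf := by
    rw [Presheaf.isSheaf_iff_isSheaf_forget _ _ (forget AddCommGrpCat.{0})]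
    exact TopCat.Presheaf.toTypes_isSheaf (top X) fun y => (PLift ((y : Pts X) = x) → N)

theorem sky_smul (U : Opens (top X)) (r : (holPresheaf X).obj (op U)) (f : SkySec x N U) (y : U)
    (h : PLift ((y.1 : Pts X) = x)) :
    (HSMul.hSMul (α := (holRing X).obj.obj (op U)) (β := (sky x N).val.obj (op U)) r f :
      SkySec x N U) y h = anGerm x U (h.down ▸ y.2) r • f y h := rfl

end Groth.Agent.An92
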